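import Cfsg.Agent.Comp.Defs

set_option autoImplicit false
set_option maxRecDepth 1000000
set_option maxHeartbeats 0
set_option Elab.async false

namespace CF.Comp.He

noncomputable def Sν : Net := (Net.cons (nat_lit 1) (nat_lit 0x10041154440511144004515155050410000) (Net.cons (nat_lit 2) (nat_lit 0x3122112310203012210102332120111220) (Net.cons (nat_lit 4) (nat_lit 0x2010309090004030805040703070a010400) (Net.cons (nat_lit 8) (nat_lit 0x61002000a1004c007b004e00bb00800000) (Net.cons (nat_lit 16) (nat_lit 0x6120000058010000482e00002a8000000000) (Net.cons (nat_lit 32) (nat_lit 0xc00000000c8a0d0630000000000000000) (Net.cons (nat_lit 64) (nat_lit 0x86020008200000000000000000000000000000000) (Net.cons (nat_lit 128) (nat_lit 0x8602000820000000401000010) (Net.cons (nat_lit 64) (nat_lit 0x8602000820000000000000000f99c976325784784) (Net.cons (nat_lit 32) (nat_lit 0xc000000003212a5ea000000002b8e0258) (Net.cons (nat_lit 16) (nat_lit 0x61200000c8d20000f33d0000eb6e000091e8) (Net.cons (nat_lit 8) (nat_lit 0x6100b700ca00c7004600610052003a001c)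 (Net.cons (nat_lit 4) (nat_lit 0x20a000c070405080c09090d010902010b02) (Net.cons (nat_lit 2) (nat_lit 0x31332313003010202100333220120300) (Net.cons (nat_lit 1) (nat_lit 0x15051114004500054454400500111440415) Net.nil)))))))))))))))
noncomputable def SWs : List (List Nat) := [[(nat_lit 11), (nat_lit 19), (nat_lit 15), (nat_lit 15), (nat_lit 11), (nat_lit 19), (nat_lit 15), (nat_lit 15)],
  [(nat_lit 19), (nat_lit 11), (nat_lit 7), (nat_lit 5), (nat_lit 19), (nat_lit 11), (nat_lit 7), (nat_lit 5)]]
noncomputable def S0_0 : Net := (Net.cons (nat_lit 1) (nat_lit 0x1554045450150055041011550540400400) (Net.cons (nat_lit 2) (nat_lit 0x3013222100323230210231231301200000) (Net.cons (nat_lit 4) (nat_lit 0x503020809050004040a0a0403020c0500) (Net.cons (nat_lit 8) (nat_lit 0x820022002300aa00b0000a001d0011) (Net.cons (nat_lit 16) (nat_lit 0x81240000dba00000918800000021) (Net.cons (nat_lit 32) (nat_lit 0xd880811000000000000000ae) (Net.cons (nat_lit 64) (nat_lit 33) (Net.cons (nat_lit 128) (nat_lit 255) (Net.cons (nat_lit 64) (nat_lit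 0x999b043243288168) (Net.cons (nat_lit 32) (nat_lit 0x1b4a841400000000459513a1) (Net.cons (nat_lit 16) (nat_lit 0x2c200000d9e60000e3570000ea4d) (Net.cons (nat_lit 8) (nat_lit 0x5001e0015006700e9007a004a009d) (Net.cons (nat_lit 4) (nat_lit 0x300080a0d04090c050d0c06090d0e09) (Net.cons (nat_lit 2) (nat_lit 0x3323220321302003233130002232330313) (Net.cons (nat_lit 1) (nat_lit 0x1545404040040501010540545115544444) Net.nil)))))))))))))))
noncomputable def S0_1 : Net := (Net.cons (nat_lit 1) (nat_lit 0x4015040454444550500440440500000000) (Net.cons (nat_lit 2) (nat_lit 0x1312200212000030000300003003000000) (Net.cons (nat_lit 4) (nat_lit 0x90b00060b060906060d0b06060f040600) (Net.cons (nat_lit 8) (nat_lit 0x9900f9009600d00004000d001f00d2) (Net.cons (nat_lit 16) (nat_lit 0x5670000488000004330000000c0) (Net.cons (nat_lit 32) (nat_lit 0x89004fe0000000000000022) (Net.cons (nat_lit 64) (nat_lit 246) (Net.cons (nat_lit 128) (nat_lit 246) (Net.cons (nat_lit 64) (nat_lit 0x6a4eb02f549096e3) (Net.cons (nat_lit 32) (nat_lit 0x29ef4c7000000000f520eafd)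 (Net.cons (nat_lit 16) (nat_lit 0x23e9000084dd0000439c0000b1bf) (Net.cons (nat_lit 8) (nat_lit 0x60006d005e007200d8008a007700b5) (Net.cons (nat_lit 4) (nat_lit 0xa0a0606090c020907040b000d000d0108) (Net.cons (nat_lit 2) (nat_lit 0x2211212213031302301032112211220330) (Net.cons (nat_lit 1) (nat_lit 0x5041005500041001554514505005051504) Net.nil)))))))))))))))
noncomputable def S0 : List Net := [S0_0, S0_1]
noncomputable def S1_0 : Net := (Net.cons (nat_lit 1) (nat_lit 0x4010401454451104040515510451011400) (Net.cons (nat_lit 2) (nat_lit 0x2211210002230132111221102001030230) (Net.cons (nat_lit 4) (nat_lit 0xb0b070d0109010e0604010001080c0800) (Net.cons (nat_lit 8) (nat_lit 0xc2009100300097000e00a100c00018) (Net.cons (nat_lit 16) (nat_lit 0xe2af00002a2e000045cc00000020) (Net.cons (nat_lit 32) (nat_lit 0xa3c203110000000000000071) (Net.cons (nat_lit 64) (nat_lit 152) (Net.cons (nat_lit 128) (nat_lit 251) (Net.cons (nat_lit 64) (nat_lit 0xf46a977e5fa8d413) (Net.cons (nat_lit 32) (nat_lit 0x47bf93a100000000ce2867d5) (Net.cons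 (nat_lit 16) (nat_lit 0xa77200008db700003c2500004d12) (Net.cons (nat_lit 8) (nat_lit 0xec00db0024006600c300e3009e0038) (Net.cons (nat_lit 4) (nat_lit 0x70d0e05020f020d0209040d0a0f0f0d00) (Net.cons (nat_lit 2) (nat_lit 0x1232220212103211221032213010323022) (Net.cons (nat_lit 1) (nat_lit 0x4111155155151154141004051405155010) Net.nil)))))))))))))))
noncomputable def S1_1 : Net := (Net.cons (nat_lit 1) (nat_lit 0x5005541100051554115450045444040100) (Net.cons (nat_lit 2) (nat_lit 0x3103020022002131202000031020111100) (Net.cons (nat_lit 4) (nat_lit 0x107010f0a060d050d0c010c0f000d0800) (Net.cons (nat_lit 8) (nat_lit 0x20044000000330034000400460034) (Net.cons (nat_lit 16) (nat_lit 0xfbc60000424100003460000000c2) (Net.cons (nat_lit 32) (nat_lit 0x11e034910000000000000014) (Net.cons (nat_lit 64) (nat_lit 17) (Net.cons (nat_lit 128) (nat_lit 255) (Net.cons (nat_lit 64) (nat_lit 0x2919b1e710e44605) (Net.cons (nat_lit 32) (nat_lit 0x627b88ef00000000d0e72cc8) (Net.cons (nat_lit 16) (nat_lit 0x5f0a0000c8140000852600006818) (Net.cons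 (nat_lit 8) (nat_lit 0x8f00f800c500ea0011004a005100c2) (Net.cons (nat_lit 4) (nat_lit 0x107010f0c0d0e0b0a0b06000908010008) (Net.cons (nat_lit 2) (nat_lit 0x3133313122132311221203102220103122) (Net.cons (nat_lit 1) (nat_lit 0x5010514554445150054145110101510004) Net.nil)))))))))))))))
noncomputable def S1_2 : Net := (Net.cons (nat_lit 1) (nat_lit 0x1540010454115404040040150115400000) (Net.cons (nat_lit 2) (nat_lit 0x3322322221030333000100030033000000) (Net.cons (nat_lit 4) (nat_lit 0x70b04080e0d060909060009010c000300) (Net.cons (nat_lit 8) (nat_lit 0xa100a4005e008500c8007000ab0045) (Net.cons (nat_lit 16) (nat_lit 0xf350000bc980000c6be00000058) (Net.cons (nat_lit 32) (nat_lit 0x5300214000000000000001a) (Net.cons (nat_lit 64) (nat_lit 197) (Net.cons (nat_lit 128) (nat_lit 223) (Net.cons (nat_lit 64) (nat_lit 0xedd3e52d50e3aa5a) (Net.cons (nat_lit 32) (nat_lit 0xc40420830000000044b092b7) (Net.cons (nat_lit 16) (nat_lit 0xb02f0000698e0000519d000000f8) (Net.cons (nat_lit 8) (nat_lit 0x99000d00c300670069002500ab00d5) (Net.cons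 (nat_lit 4) (nat_lit 0xe0c07090c010b080c0e010d07030f0400) (Net.cons (nat_lit 2) (nat_lit 0x223002022131322110123032031122000) (Net.cons (nat_lit 1) (nat_lit 0x4040101451110454540104450415400050) Net.nil)))))))))))))))
noncomputable def S1_3 : Net := (Net.cons (nat_lit 1) (nat_lit 0x5015110151454440001004511004100000) (Net.cons (nat_lit 2) (nat_lit 0x322022112330300303100030000100000) (Net.cons (nat_lit 4) (nat_lit 0x10709060b09000b060f000a05020c0800) (Net.cons (nat_lit 8) (nat_lit 0xe400e9008a008000e0002e00000002) (Net.cons (nat_lit 16) (nat_lit 0x1de000003913000091e500000065) (Net.cons (nat_lit 32) (nat_lit 0x6c1b9ee00000000000000056) (Net.cons (nat_lit 64) (nat_lit 4) (Net.cons (nat_lit 128) (nat_lit 119) (Net.cons (nat_lit 64) (nat_lit 0x91e17fecfdbac016) (Net.cons (nat_lit 32) (nat_lit 0x11ffce0800000000677aa0f1) (Net.cons (nat_lit 16) (nat_lit 0x2ce00000348b0000096100008c45) (Net.cons (nat_lit 8) (nat_lit 0x4008d008000b2004400a600e000e2) (Net.cons (nat_lit 4) (nat_lit 0x1060906070c0a0a060f03050d07000000) (Net.cons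 (nat_lit 2) (nat_lit 0x323011021230301310101032032222000) (Net.cons (nat_lit 1) (nat_lit 0x540445154415401040001450410400000) Net.nil)))))))))))))))
noncomputable def S1_4 : Net := (Net.cons (nat_lit 1) (nat_lit 0x1540010154455001040010450410400000) (Net.cons (nat_lit 2) (nat_lit 0x312011221300330000100030030000000) (Net.cons (nat_lit 4) (nat_lit 0x30302040a050602050901020504000800) (Net.cons (nat_lit 8) (nat_lit 0x910028009c00420046003400520042) (Net.cons (nat_lit 16) (nat_lit 0x3e9600000b0e0000243600000005) (Net.cons (nat_lit 32) (nat_lit 0x6c7b10c0000000000000035) (Net.cons (nat_lit 64) (nat_lit 67) (Net.cons (nat_lit 128) (nat_lit 119) (Net.cons (nat_lit 64) (nat_lit 0xff9f572a8950e884) (Net.cons (nat_lit 32) (nat_lit 0xc12935000000000faa8e4f0) (Net.cons (nat_lit 16) (nat_lit 0x3e96000017d200008c4700002c27) (Net.cons (nat_lit 8) (nat_lit 0xd400c0005a009a0052006d009000a2) (Net.cons (nat_lit 4) (nat_lit 0x4030a06060c0602040c00040908090200) (Net.cons (nat_lit 2) (nat_lit 0x203032312230202123122111211012000) (Net.cons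 (nat_lit 1) (nat_lit 0x4015154151454040001404551004450000) Net.nil)))))))))))))))
noncomputable def S1_5 : Net := (Net.cons (nat_lit 1) (nat_lit 0x5015110151454440001004511004100000) (Net.cons (nat_lit 2) (nat_lit 0x322022112330300303100030000100000) (Net.cons (nat_lit 4) (nat_lit 0x10e09070e01020a060e000201080c0800) (Net.cons (nat_lit 8) (nat_lit 0xa400bc002800520048004300000000) (Net.cons (nat_lit 16) (nat_lit 0xce000003ae00000734000000025) (Net.cons (nat_lit 32) (nat_lit 0xa9240000000000000000056) (Net.cons (nat_lit 64) (nat_lit 4) (Net.cons (nat_lit 128) (nat_lit 119) (Net.cons (nat_lit 64) (nat_lit 0xf208396499faea84) (Net.cons (nat_lit 32) (nat_lit 0x77fec0480000000055082456) (Net.cons (nat_lit 16) (nat_lit 0x2ca0000012b00000574000000c65) (Net.cons (nat_lit 8) (nat_lit 0xa4009c0028005b0048000700000020) (Net.cons (nat_lit 4) (nat_lit 0x10e090706010202060e0f06050c0c0000) (Net.cons (nat_lit 2) (nat_lit 0x323022312230302323122031001102000) (Net.cons (nat_lit 1) (nat_lit 0x5015110151454440001004511004100000) Net.nil)))))))))))))))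
noncomputable def S1_6 : Net := (Net.cons (nat_lit 8) (nat_lit 0xf000ff0000000000000000) (Net.cons (nat_lit 16) (nat_lit 0xff000000000000000000) (Net.cons (nat_lit 32) (nat_lit 0xffff0000000000000000) (Net.cons (nat_lit 64) (nat_lit 0xffff0f000000) (Net.cons (nat_lit 32) (nat_lit 0xffff00000000f0ff0000) (Net.cons (nat_lit 16) (nat_lit 0xff000000000000000000) (Net.cons (nat_lit 8) (nat_lit 0xf000ff0000000000000000) (Net.cons (nat_lit 4) (nat_lit 0xf00000f000f000f0000) (Net.cons (nat_lit 2) (nat_lit 0x33333000000000000000000000000) (Net.cons (nat_lit 1) (nat_lit 0x5555505500000000000000000000000000) Net.nil))))))))))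
noncomputable def S1 : List Net := [S1_0, S1_1, S1_2, S1_3, S1_4, S1_5, S1_6]
noncomputable def SW : List (List Nat) := [[(nat_lit 4), (nat_lit 2), (nat_lit 3), (nat_lit 2), (nat_lit 3), (nat_lit 3), (nat_lit 3)],
  [(nat_lit 2), (nat_lit 3), (nat_lit 2), (nat_lit 2), (nat_lit 2), (nat_lit 4), (nat_lit 4), (nat_lit 4), (nat_lit 4), (nat_lit 2), (nat_lit 4), (nat_lit 2)],
  [(nat_lit 5), (nat_lit 8), (nat_lit 8), (nat_lit 6), (nat_lit 8)],
  [(nat_lit 5), (nat_lit 8), (nat_lit 6), (nat_lit 6), (nat_lit 7), (nat_lit 7)],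
  [(nat_lit 12)],
  [(nat_lit 9), (nat_lit 11), (nat_lit 9), (nat_lit 9), (nat_lit 9), (nat_lit 12), (nat_lit 9)],
  [(nat_lit 14), (nat_lit 15), (nat_lit 15), (nat_lit 15)]]
noncomputable def SC : List Lvl := [⟨(nat_lit 0), [[(nat_lit 1)],
  [(nat_lit 3)]], (nat_lit 8)⟩,
  ⟨(nat_lit 1), [[(nat_lit 5)],
  [(nat_lit 7)]], (nat_lit 7)⟩,
  ⟨(nat_lit 4), [[(nat_lit 9)],
  [(nat_lit 11)]], (nat_lit 4)⟩,
  ⟨(nat_lit 5), [[(nat_lit 13)],
  [(nat_lit 15)]], (nat_lit 1)⟩,
  ⟨(nat_lit 16), [[(nat_lit 17)]], (nat_lit 1)⟩]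
noncomputable def U0_0 : Net := (Net.cons (nat_lit 1) (nat_lit 0x15054151454440001004511004100000) (Net.cons (nat_lit 2) (nat_lit 0x322013112330300303200030000200000) (Net.cons (nat_lit 4) (nat_lit 0x20d02090f020105090f000102040c0400) (Net.cons (nat_lit 8) (nat_lit 0x78001e005400e10084008300000000) (Net.cons (nat_lit 16) (nat_lit 0x6cd0000035900000b3800000001a) (Net.cons (nat_lit 32) (nat_lit 0x521c00000000000000000a9) (Net.cons (nat_lit 64) (nat_lit 8) (Net.cons (nat_lit 128) (nat_lit 187) (Net.cons (nat_lit 64) (nat_lit 0xf104369866f5d548) (Net.cons (nat_lit 32) (nat_lit 0xbbfdc08400000000aa0418a9) (Net.cons (nat_lit 16) (nat_lit 0x1c50000021700000ab8000004c9a) (Net.cons (nat_lit 8) (nat_lit 0x58004e001400e70084000b00600050) (Net.cons (nat_lit 4) (nat_lit 0x20d06090b020101090f0f090a0c040000) (Net.cons (nat_lit 2) (nat_lit 0x320011012130301313211032002001000) (Net.cons (nat_lit 1) (nat_lit 0x15445151454440001404511004540000) Net.nil)))))))))))))))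
noncomputable def U0_1 : Net := (Net.cons (nat_lit 1) (nat_lit 0x4000044004000000000000000000000000) (Net.cons (nat_lit 4) (nat_lit 0xf000f00000a050b09060b040c04000c00) (Net.cons (nat_lit 8) (nat_lit 0xf002e00c5000600f100410000) (Net.cons (nat_lit 16) (nat_lit 0xf00000967d0000616400000000) (Net.cons (nat_lit 32) (nat_lit 0x3181ccff000000000000005a) (Net.cons (nat_lit 64) (nat_lit 255) (Net.cons (nat_lit 128) (nat_lit 255) (Net.cons (nat_lit 64) (nat_lit 0x3181cc5a062621ff) (Net.cons (nat_lit 32) (nat_lit 0x3181ccff000000009bf46858) (Net.cons (nat_lit 16) (nat_lit 0xff00000127b0000598100000802) (Net.cons (nat_lit 8) (nat_lit 0xff003600e100b600d500d50000) (Net.cons (nat_lit 4) (nat_lit 0xf000f00000a050b09060b040c04000506) (Net.cons (nat_lit 2) (nat_lit 0x1202011221212121121212211212212112) (Net.cons (nat_lit 1) (nat_lit 0x1505011551144411144411441144111414) Net.nil))))))))))))))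
noncomputable def U0_2 : Net := (Net.cons (nat_lit 1) (nat_lit 0x4040010404000000004000000004000000) (Net.cons (nat_lit 2) (nat_lit 0x2000200000000000000000000000000000) (Net.cons (nat_lit 4) (nat_lit 0xa0003050f0f0f00000f00000000000000) (Net.cons (nat_lit 8) (nat_lit 0x20000f000f00000000000f00200050) (Net.cons (nat_lit 16) (nat_lit 0x500b0000a00a00000ff500000000) (Net.cons (nat_lit 32) (nat_lit 0x8fd5500f00000000000000f0) (Net.cons (nat_lit 64) (nat_lit 253) (Net.cons (nat_lit 128) (nat_lit 253) (Net.cons (nat_lit 64) (nat_lit 0xf50ffadf20fffd) (Net.cons (nat_lit 32) (nat_lit 0xdfff505a00000000002000f0) (Net.cons (nat_lit 16) (nat_lit 0x204a00005f0a00000ff500005000) (Net.cons (nat_lit 8) (nat_lit 0x20005f00f00050000000f000200000) (Net.cons (nat_lit 4) (nat_lit 0xf0000000f00000f050f000f0f00000f00) (Net.cons (nat_lit 2) (nat_lit 0x3021301212030003011033000012003310) (Net.cons (nat_lit 1) (nat_lit 0x4015401101550500054505555551550550) Net.nil)))))))))))))))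
noncomputable def U0_3 : Net := (Net.cons (nat_lit 1) (nat_lit 0x145000000541510140041010544010000) (Net.cons (nat_lit 2) (nat_lit 0x1031202233100303231131323101330000) (Net.cons (nat_lit 4) (nat_lit 0x50206080e0d0109060d02080e0d030000) (Net.cons (nat_lit 8) (nat_lit 0x3400db0070008d008b00ad00990088) (Net.cons (nat_lit 16) (nat_lit 0xc9c200001b400000d1070000000c) (Net.cons (nat_lit 32) (nat_lit 0xa7100781000000000000005c) (Net.cons (nat_lit 64) (nat_lit 53) (Net.cons (nat_lit 128) (nat_lit 253) (Net.cons (nat_lit 64) (nat_lit 0x408f5b96bf72fc37) (Net.cons (nat_lit 32) (nat_lit 0xfb66078900000000c488395a) (Net.cons (nat_lit 16) (nat_lit 0xd6c0000025030000462000001446) (Net.cons (nat_lit 8) (nat_lit 0xb8003f0032008d003f00c100670083) (Net.cons (nat_lit 4) (nat_lit 0x50105080f0a0b0b0a0c0c0b060b000208) (Net.cons (nat_lit 2) (nat_lit 0x1032302233200203232132333202330000) (Net.cons (nat_lit 1) (nat_lit 0x540000050051510155014511001010541) Net.nil)))))))))))))))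
noncomputable def U0_4 : Net := (Net.cons (nat_lit 1) (nat_lit 0x5404010100504114005114104004000400) (Net.cons (nat_lit 2) (nat_lit 0x1230131330201302321121133222010000) (Net.cons (nat_lit 4) (nat_lit 0xf0c080c0505050104090e060a02010000) (Net.cons (nat_lit 8) (nat_lit 0x4e00720000000a0019009200d40033) (Net.cons (nat_lit 16) (nat_lit 0xa5a40000795f0000982b00000060) (Net.cons (nat_lit 32) (nat_lit 0xb8242400000000000000048) (Net.cons (nat_lit 64) (nat_lit 131) (Net.cons (nat_lit 128) (nat_lit 255) (Net.cons (nat_lit 64) (nat_lit 0x989b42e603182da4) (Net.cons (nat_lit 32) (nat_lit 0xd18b6600000000002411b229) (Net.cons (nat_lit 16) (nat_lit 0x340600008e37000098de000042a3) (Net.cons (nat_lit 8) (nat_lit 0xe700e40001006000890060002800e4) (Net.cons (nat_lit 4) (nat_lit 0x90f0b0f000c0f0c070f0501010b070003) (Net.cons (nat_lit 2) (nat_lit 0x310020221330311311120022010011321) (Net.cons (nat_lit 1) (nat_lit 0x5455541101055044054440110411454150) Net.nil)))))))))))))))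
noncomputable def U0_5 : Net := (Net.cons (nat_lit 1) (nat_lit 0x1015010401550500054404500004100000) (Net.cons (nat_lit 2) (nat_lit 0x1311100122330000333300033000100000) (Net.cons (nat_lit 4) (nat_lit 0xf0a00080504030a0102000a0402010400) (Net.cons (nat_lit 8) (nat_lit 0xcf009c00f30072009c00300010000a) (Net.cons (nat_lit 16) (nat_lit 0x7c0000940a0000a08c000000ad) (Net.cons (nat_lit 32) (nat_lit 0x2a02402e0000000000000096) (Net.cons (nat_lit 64) (nat_lit 160) (Net.cons (nat_lit 128) (nat_lit 191) (Net.cons (nat_lit 64) (nat_lit 0xc19036bfbad2e0c1) (Net.cons (nat_lit 32) (nat_lit 0x7242df2300000000a38031b9) (Net.cons (nat_lit 16) (nat_lit 0xe3890000b11600008008000064b7) (Net.cons (nat_lit 8) (nat_lit 0x34006c00270066009c006500e9009a) (Net.cons (nat_lit 4) (nat_lit 0xd070b0d0503020b0305000907040c0b00) (Net.cons (nat_lit 2) (nat_lit 0x2332200312330202313322013020022000) (Net.cons (nat_lit 1) (nat_lit 0x5410110451000500451504405101100501) Net.nil)))))))))))))))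
noncomputable def U0_6 : Net := (Net.cons (nat_lit 1) (nat_lit 0x1040501140101541044541445001004100) (Net.cons (nat_lit 2) (nat_lit 0x1212032100001232003023330222301100) (Net.cons (nat_lit 4) (nat_lit 0x90f0d000a040e080004020804080000) (Net.cons (nat_lit 8) (nat_lit 0x170010002b0069008d003c000c0002) (Net.cons (nat_lit 16) (nat_lit 0x993000000a0800004d5500000028) (Net.cons (nat_lit 32) (nat_lit 0x4400c74000000000000000b5) (Net.cons (nat_lit 64) (nat_lit 12) (Net.cons (nat_lit 128) (nat_lit 255) (Net.cons (nat_lit 64) (nat_lit 0xc2c98d608ed35298) (Net.cons (nat_lit 32) (nat_lit 0xa2199e6000000000198dea15) (Net.cons (nat_lit 16) (nat_lit 0x124000031350000dc990000f57b) (Net.cons (nat_lit 8) (nat_lit 0x26008500fe00ee00c00056003f0052) (Net.cons (nat_lit 4) (nat_lit 0xb010005030b0e0409010a0e0107040908) (Net.cons (nat_lit 2) (nat_lit 0x3012112300330331313111302002031302) (Net.cons (nat_lit 1) (nat_lit 0x4010551451141154104515515155014100) Net.nil)))))))))))))))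
noncomputable def U0 : List Net := [U0_0, U0_1, U0_2, U0_3, U0_4, U0_5, U0_6]
noncomputable def U1_0 : Net := (Net.cons (nat_lit 1) (nat_lit 0x1510111504441411010040000515100044) (Net.cons (nat_lit 2) (nat_lit 0x233312122130331011223313200020100) (Net.cons (nat_lit 4) (nat_lit 0xa0607020f03010c0a090f000104080000) (Net.cons (nat_lit 8) (nat_lit 0x13002700c1004d00c1000c0004000f) (Net.cons (nat_lit 16) (nat_lit 0x537900002103000000080000004c) (Net.cons (nat_lit 32) (nat_lit 0x42228c4000000000000000a0) (Net.cons (nat_lit 64) (nat_lit 76) (Net.cons (nat_lit 128) (nat_lit 239) (Net.cons (nat_lit 64) (nat_lit 0xec79b16d169f2f4e) (Net.cons (nat_lit 32) (nat_lit 0xba7e320400000000328e8c41) (Net.cons (nat_lit 16) (nat_lit 0x9f53000046b800007b2c00003c2b) (Net.cons (nat_lit 8) (nat_lit 0xcf00cf008600b200b0007400390081) (Net.cons (nat_lit 4) (nat_lit 0x90506030800080e09030b0203070d060a) (Net.cons (nat_lit 2) (nat_lit 0x2112203133120230201213103101023101) (Net.cons (nat_lit 1) (nat_lit 0x5410415401451104514105540155000541) Net.nil)))))))))))))))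
noncomputable def U1_1 : Net := (Net.cons (nat_lit 1) (nat_lit 0x5154550000445005441501001110400400) (Net.cons (nat_lit 2) (nat_lit 0x2300321230010013001003302033012000) (Net.cons (nat_lit 4) (nat_lit 0xb000400000b0007070806070e080b0100) (Net.cons (nat_lit 8) (nat_lit 0xad000800c000c40000003000700011) (Net.cons (nat_lit 16) (nat_lit 0x3c22000022480000308000000002) (Net.cons (nat_lit 32) (nat_lit 0x29d08f8000000000000000f0) (Net.cons (nat_lit 64) (nat_lit 26) (Net.cons (nat_lit 128) (nat_lit 255) (Net.cons (nat_lit 64) (nat_lit 0xa84092aa85bb0d25) (Net.cons (nat_lit 32) (nat_lit 0x6c90a4820000000050002e4a) (Net.cons (nat_lit 16) (nat_lit 0x1eab00001e20000038c000006168) (Net.cons (nat_lit 8) (nat_lit 0x8f009000c10050008300d900760010) (Net.cons (nat_lit 4) (nat_lit 0xa0a0a0c08020f0e000a04040805000a) (Net.cons (nat_lit 2) (nat_lit 0x120131330300200301003030332312301) (Net.cons (nat_lit 1) (nat_lit 0x1054450000445105540540401514014404) Net.nil)))))))))))))))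
noncomputable def U1_2 : Net := (Net.cons (nat_lit 1) (nat_lit 0x4004040000000000000000000000000) (Net.cons (nat_lit 4) (nat_lit 0xf00000000000f0f0f00000000000000) (Net.cons (nat_lit 8) (nat_lit 0xf0000f00ff0000000f00000000) (Net.cons (nat_lit 16) (nat_lit 0xf000000f0f0000000000000000) (Net.cons (nat_lit 32) (nat_lit 0xff0000000000000000) (Net.cons (nat_lit 64) (nat_lit 240) (Net.cons (nat_lit 128) (nat_lit 240) (Net.cons (nat_lit 64) (nat_lit 0xfff000fff0) (Net.cons (nat_lit 32) (nat_lit 0xff000000000f000000) (Net.cons (nat_lit 16) (nat_lit 0xfff00000fff0000000000000f000) (Net.cons (nat_lit 8) (nat_lit 0xf000f000ff000000f000000000) (Net.cons (nat_lit 4) (nat_lit 0xf0000000f0f000f0f0f0f0f000f0f00) (Net.cons (nat_lit 2) (nat_lit 0x3022322121300300033033000033333300) (Net.cons (nat_lit 1) (nat_lit 0x4454104540114441441114411414411441) Net.nil))))))))))))))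
noncomputable def U1_3 : Net := (Net.cons (nat_lit 1) (nat_lit 0x5540001451555000140040000540400000) (Net.cons (nat_lit 2) (nat_lit 0x3311313212003333130000000300300000) (Net.cons (nat_lit 4) (nat_lit 0x507040e020c0f090808050e010c030200) (Net.cons (nat_lit 8) (nat_lit 0xc70054000500c10014009600b5004a) (Net.cons (nat_lit 16) (nat_lit 0x85d10000d4400000421c000000d2) (Net.cons (nat_lit 32) (nat_lit 0x4919013400000000000000d4) (Net.cons (nat_lit 64) (nat_lit 46) (Net.cons (nat_lit 128) (nat_lit 255) (Net.cons (nat_lit 64) (nat_lit 0xac3a5ac867430173) (Net.cons (nat_lit 32) (nat_lit 0x85c01cc900000000a96f1e00) (Net.cons (nat_lit 16) (nat_lit 0x417000072590000869200009fd6) (Net.cons (nat_lit 8) (nat_lit 0xea0026003000460035000d00b40047) (Net.cons (nat_lit 4) (nat_lit 0xe040e010c0d0d090c0c00020d02090400) (Net.cons (nat_lit 2) (nat_lit 0x321031303021021121322000030332101) (Net.cons (nat_lit 1) (nat_lit 0x1040154454405540001004050154514540) Net.nil)))))))))))))))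
noncomputable def U1_4 : Net := (Net.cons (nat_lit 1) (nat_lit 0x1540101401455010010040000540100000) (Net.cons (nat_lit 2) (nat_lit 0x321001222303333100000000300300000) (Net.cons (nat_lit 4) (nat_lit 0x8010708080807060408010400060e00) (Net.cons (nat_lit 8) (nat_lit 0x40006005f00c10075000100a40002) (Net.cons (nat_lit 16) (nat_lit 0xcbe0000c0830000c03500000004) (Net.cons (nat_lit 32) (nat_lit 0x1006900000000000000035) (Net.cons (nat_lit 64) (nat_lit 102) (Net.cons (nat_lit 128) (nat_lit 119) (Net.cons (nat_lit 64) (nat_lit 0x1dc8e4c000184a53) (Net.cons (nat_lit 32) (nat_lit 0xccda4b2c00000000800d683f) (Net.cons (nat_lit 16) (nat_lit 0x803800009a060000ccb50000a40c) (Net.cons (nat_lit 8) (nat_lit 0xc00076006e00050075006a00a4000a) (Net.cons (nat_lit 4) (nat_lit 0x40e0307080d0d0209000e030600010100) (Net.cons (nat_lit 2) (nat_lit 0x221010132313332100100300222232000) (Net.cons (nat_lit 1) (nat_lit 0x540554151455010445040100440454440) Net.nil)))))))))))))))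
noncomputable def U1_5 : Net := (Net.cons (nat_lit 1) (nat_lit 0x1540101401455010010040000540100000) (Net.cons (nat_lit 2) (nat_lit 0x321001222303333100000000300300000) (Net.cons (nat_lit 4) (nat_lit 0x10c090609080b04060400000400060e00) (Net.cons (nat_lit 8) (nat_lit 0x800018004200c80039001e00a00002) (Net.cons (nat_lit 16) (nat_lit 0xecce00006a0a00006e9b00000061) (Net.cons (nat_lit 32) (nat_lit 0x8b117080000000000000031) (Net.cons (nat_lit 64) (nat_lit 102) (Net.cons (nat_lit 128) (nat_lit 119) (Net.cons (nat_lit 64) (nat_lit 0xf1a31dc58f186a48) (Net.cons (nat_lit 32) (nat_lit 0x405fdb9100000000d78aa456) (Net.cons (nat_lit 16) (nat_lit 0x209800004faa0000866500006e6f) (Net.cons (nat_lit 8) (nat_lit 0xcc007300bc008f00ac0006007d0004) (Net.cons (nat_lit 4) (nat_lit 0x40e03070902030900000f0c0e00010100) (Net.cons (nat_lit 2) (nat_lit 0x221023201303320122132312300002000) (Net.cons (nat_lit 1) (nat_lit 0x5015054154401040404054550154044440) Net.nil)))))))))))))))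
noncomputable def U1_6 : Net := (Net.cons (nat_lit 8) (nat_lit 0xf000ff0000000000000000) (Net.cons (nat_lit 16) (nat_lit 0xff000000000000000000) (Net.cons (nat_lit 32) (nat_lit 0xffff0000000000000000) (Net.cons (nat_lit 64) (nat_lit 0xffff0f000000) (Net.cons (nat_lit 32) (nat_lit 0xffff00000000f0ff0000) (Net.cons (nat_lit 16) (nat_lit 0xff000000000000000000) (Net.cons (nat_lit 8) (nat_lit 0xf000ff0000000000000000) (Net.cons (nat_lit 4) (nat_lit 0xf00000f000f000f0000) (Net.cons (nat_lit 2) (nat_lit 0x33333000000000000000000000000) (Net.cons (nat_lit 1) (nat_lit 0x5555505500000000000000000000000000) Net.nil))))))))))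
noncomputable def U1 : List Net := [U1_0, U1_1, U1_2, U1_3, U1_4, U1_5, U1_6]
noncomputable def UW : List (List Nat) := [[(nat_lit 10), (nat_lit 13), (nat_lit 7), (nat_lit 11), (nat_lit 3), (nat_lit 7), (nat_lit 9), (nat_lit 3), (nat_lit 3), (nat_lit 5), (nat_lit 13)],
  [(nat_lit 10), (nat_lit 6), (nat_lit 13), (nat_lit 1), (nat_lit 13), (nat_lit 5), (nat_lit 3), (nat_lit 11), (nat_lit 3)],
  [(nat_lit 16), (nat_lit 17), (nat_lit 15)],
  [(nat_lit 15), (nat_lit 15), (nat_lit 15), (nat_lit 18), (nat_lit 15), (nat_lit 15), (nat_lit 17), (nat_lit 17), (nat_lit 17), (nat_lit 16), (nat_lit 16)],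
  [(nat_lit 20), (nat_lit 22), (nat_lit 19), (nat_lit 21), (nat_lit 19)],
  [(nat_lit 22), (nat_lit 20), (nat_lit 22), (nat_lit 22), (nat_lit 19), (nat_lit 19), (nat_lit 19)],
  [(nat_lit 25), (nat_lit 23), (nat_lit 23), (nat_lit 23)]]
noncomputable def UC : List Lvl := [⟨(nat_lit 4), [[(nat_lit 1)],
  [(nat_lit 3)],
  [(nat_lit 5)],
  [(nat_lit 7)],
  [(nat_lit 9)],
  [(nat_lit 11)],
  [(nat_lit 13)]], (nat_lit 4)⟩,
  ⟨(nat_lit 5), [[(nat_lit 15)],
  [(nat_lit 17)]], (nat_lit 8)⟩,
  ⟨(nat_lit 0), [[(nat_lit 19)],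
  [(nat_lit 21)]], (nat_lit 4)⟩,
  ⟨(nat_lit 2), [[(nat_lit 23)],
  [(nat_lit 25)]], (nat_lit 2)⟩,
  ⟨(nat_lit 16), [[(nat_lit 27)]], (nat_lit 1)⟩]
noncomputable def SL_0 : Net := (Net.cons (nat_lit 1) (nat_lit 0x411500414410450510400) (Net.cons (nat_lit 2) (nat_lit 0x210301122012312102200) (Net.cons (nat_lit 4) (nat_lit 0x70f0202090706020200) (Net.cons (nat_lit 8) (nat_lit 0x3e008600d600910014) (Net.cons (nat_lit 16) (nat_lit 0xd0c500004a80) (Net.cons (nat_lit 32) (nat_lit 541361) (Net.cons (nat_lit 64) (nat_lit 1821437) (Net.cons (nat_lit 32) (nat_lit 296723698) (Net.cons (nat_lit 16) (nat_lit 0x7000095cf0000c19b) (Net.cons (nat_lit 8) (nat_lit 0x7600c3009200a4009d) (Net.cons (nat_lit 4) (nat_lit 0xf0704060c0006030804) (Net.cons (nat_lit 2) (nat_lit 0x223300023223232311101) (Net.cons (nat_lit 1) (nat_lit 0x144414114010554104) Net.nil)))))))))))))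
noncomputable def SL_1 : Net := (Net.cons (nat_lit 1) (nat_lit 0x414105144141041414100) (Net.cons (nat_lit 2) (nat_lit 0x122300133100122110220) (Net.cons (nat_lit 4) (nat_lit 0xc0f050a00060d060a02) (Net.cons (nat_lit 8) (nat_lit 0xb007b000000450009) (Net.cons (nat_lit 16) (nat_lit 0xa0000dc2d0000a100) (Net.cons (nat_lit 32) (nat_lit 161134) (Net.cons (nat_lit 64) (nat_lit 259438) (Net.cons (nat_lit 32) (nat_lit 974516262) (Net.cons (nat_lit 16) (nat_lit 0x30000608000007816) (Net.cons (nat_lit 8) (nat_lit 0x77001d0027002a005a) (Net.cons (nat_lit 4) (nat_lit 0x1010909050d060a0c020e) (Net.cons (nat_lit 2) (nat_lit 0x103212213333120100000) (Net.cons (nat_lit 1) (nat_lit 0x514155554044540511115) Net.nil)))))))))))))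
noncomputable def SL : List Net := [SL_0, SL_1]
noncomputable def SV : List (List Nat) := [[(nat_lit 2097151), (nat_lit 0x1fffffffffffffffe00000), (nat_lit 0), (nat_lit 0)],
  [(nat_lit 0x1fffe0001f), (nat_lit 0x1fffe0001fffe0), (nat_lit 0x1fffe0000000000000), (nat_lit 0x1fffe00000000000000000)],
  [(nat_lit 0x1e001e001e001e001e1), (nat_lit 0x1e001e001e001e001e1e), (nat_lit 0x1e001e001e001e001e000), (nat_lit 0x1e001e001e001e001e0000)],
  [(nat_lit 0x222222222222222222222), (nat_lit 0x444444444444444444445), (nat_lit 0x888888888888888888888), (nat_lit 0x1111111111111111111110)]]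
noncomputable def Sσ : Net := (Net.cons (nat_lit 64) (nat_lit 2097151) (Net.cons (nat_lit 32) (nat_lit 4292870144) (Net.cons (nat_lit 16) (nat_lit 0x1f0000001f0000001f) (Net.cons (nat_lit 8) (nat_lit 0xe000e000e000e000e0) (Net.cons (nat_lit 4) (nat_lit 0x101010101010101010101) (Net.cons (nat_lit 2) (nat_lit 0x222222222222222222222) Net.nil))))))
noncomputable def SCs : List (List Nat) := [[(nat_lit 0), (nat_lit 0x4831483048314ab430484), (nat_lit 0x1878687028502850387869), (nat_lit 0x304830cd32cc304848312)],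
  [(nat_lit 0), (nat_lit 0x1111111111111111088888), (nat_lit 0x666666666666666644445), (nat_lit 0x888888888888888933332)]]
noncomputable def SA : List (List (List Nat)) := [[[3, 0, 2, 3], [0, 3, 3, 1], [0, 0, 2, 0], [0, 0, 0, 2]],
  [[3, 0, 0, 3], [3, 0, 0, 0], [2, 2, 0, 0], [3, 2, 2, 2]]]
noncomputable def STs : List Nat := [(nat_lit 0xffff000000000000000000000000000000),
  (nat_lit 0xf000fff000000000000000000000000000),
  (nat_lit 0xf00f00ff0000000000000000000000000),
  (nat_lit 0xf00f0f0f000000000000000000000000),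
  (nat_lit 0xf00f0ff000000000000000000000000),
  (nat_lit 0x8000888000fff000000000000000000000),
  (nat_lit 0x8000444000000fff000000000000000000),
  (nat_lit 0x8000222000000000fff000000000000000),
  (nat_lit 0x8000111000000000000fff000000000000),
  (nat_lit 0x4000421000f00000000000ff0000000000),
  (nat_lit 0x4000812000000f0000000000ff00000000),
  (nat_lit 0x4000184000000000f000000000ff000000),
  (nat_lit 0x4000248000000000000f00000000ff0000),
  (nat_lit 0x20002140000f0000000000f0000000f000),
  (nat_lit 0x20001280000000f000000000f000000f00),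
  (nat_lit 0x20008410000000000f00000000f00000f0),
  (nat_lit 0x20004820000000000000f0000000f0000f),
  (nat_lit 0x100014200000f0000000000f000000f000),
  (nat_lit 0x100028100000000f000000000f00000f00),
  (nat_lit 0x100041800000000000f00000000f0000f0),
  (nat_lit 0x100082400000000000000f0000000f000f),
  (nat_lit 0x8888000000888888888888000000000000),
  (nat_lit 0x4444000000800800800800888888880000),
  (nat_lit 0x2222000000080080080080808080808888),
  (nat_lit 0x1111000000008008008008080808088888),
  (nat_lit 0x8421000000444444444444000000000000),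
  (nat_lit 0x4812000000400400400400444444440000),
  (nat_lit 0x2184000000040040040040404040404444),
  (nat_lit 0x1248000000004004004004040404044444),
  (nat_lit 0x8214000000222222222222000000000000),
  (nat_lit 0x4128000000200200200200222222220000),
  (nat_lit 0x2841000000020020020020202020202222),
  (nat_lit 0x1482000000002002002002020202022222),
  (nat_lit 0x8142000000111111111111000000000000),
  (nat_lit 0x4281000000100100100100111111110000),
  (nat_lit 0x2418000000010010010010101010101111),
  (nat_lit 0x1824000000001001001001010101011111),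
  (nat_lit 0x800800880421800080008002140040012),
  (nat_lit 0x800400440800421008080210004400021),
  (nat_lit 0x800200220080008421800400400211200),
  (nat_lit 0x800100110008080800421044021002100),
  (nat_lit 0x400800210812400040004001280080021),
  (nat_lit 0x400400120400812004040120008800012),
  (nat_lit 0x400200840040004812400800800122100),
  (nat_lit 0x400100480004040400812088012001200),
  (nat_lit 0x200800140184200020002008410010048),
  (nat_lit 0x200400280200184002020840001100084),
  (nat_lit 0x200200410020002184200100100844800),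
  (nat_lit 0x200100820002020200184011084008400),
  (nat_lit 0x100800420248100010001004820020084),
  (nat_lit 0x100400810100248001010480002200048),
  (nat_lit 0x100200180010001248100200200488400),
  (nat_lit 0x100100240001010100248022048004800),
  (nat_lit 0x8008088214080008800002002140410),
  (nat_lit 0x8001014800008080214140220000140),
  (nat_lit 0x8004042080214800008200014024001),
  (nat_lit 0x8002021008800214080021400201004),
  (nat_lit 0x1008012128040004400001001280820),
  (nat_lit 0x1001081400004040128280110000280),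
  (nat_lit 0x1004028040128400004100028018002),
  (nat_lit 0x1002044004400128040012800102008),
  (nat_lit 0x4008041841020002200008008410140),
  (nat_lit 0x4001022200002020841410880000410),
  (nat_lit 0x4004084020841200002800041081004),
  (nat_lit 0x4002018002200841020084100804001),
  (nat_lit 0x2008024482010001100004004820280),
  (nat_lit 0x2001048100001010482820440000820),
  (nat_lit 0x2004011010482100001400082042008),
  (nat_lit 0x2002082001100482010048200408002),
  (nat_lit 0x80080808142008800080000142100402),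
  (nat_lit 0x80020201800080142008421000010204),
  (nat_lit 0x80010104080800008142104201002040),
  (nat_lit 0x80040402008142080800010010424020),
  (nat_lit 0x20080202281004400040000281200801),
  (nat_lit 0x20020804400040281004812000020108),
  (nat_lit 0x20010401040400004281208102001080),
  (nat_lit 0x20040108004281040400020020818010),
  (nat_lit 0x10080101418002200020000418400108),
  (nat_lit 0x10020408200020418002184000040801),
  (nat_lit 0x10010802020200002418401804008010),
  (nat_lit 0x10040204002418020200040040181080),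
  (nat_lit 0x40080404824001100010000824800204),
  (nat_lit 0x40020102100010824001248000080402),
  (nat_lit 0x40010208010100001824802408004020),
  (nat_lit 0x40040801001824010100080080242040)]

end CF.Comp.He
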